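import Groth.Agent.NormalExtLib.Scheme
import Groth.Agent.NormalExtLib.Glue
import Mathlib.AlgebraicGeometry.ValuativeCriterion

/-!
# Extending morphisms to proper schemes near a point with valuation local ring
-/

set_option autoImplicit false
set_option backward.isDefEq.respectTransparency.types false
universe u

open CategoryTheory CategoryTheory.Limits AlgebraicGeometry TopologicalSpace NormalExtLib

noncomputable section

namespace ValExtLib

variable {X : Scheme.{u}}

/-- An integral neighbourhood of a point with domain stalk on a reduced scheme with finitely many components. -/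
theorem exists_isIntegral_nhd_of_finite [IsReduced X] (hfin : (irreducibleComponents ↥X).Finite) (x : X)
    [IsDomain (X.presheaf.stalk x)] : ∃ W : X.Opens, x ∈ W ∧ IsIntegral (W : Scheme.{u}) := by
  let η : X := genPt x
  have key : ∀ Z ∈ irreducibleComponents ↥X, x ∈ Z → Z ⊆ closure {η} := by
    intro Z hZ hxZ
    have hZi : IsIrreducible Z := hZ.1
    have hc : IsClosed Z := isClosed_of_mem_irreducibleComponents Z hZ
    have hg : hZi.genericPoint ⤳ x := by
      rw [specializes_iff_mem_closure, hZi.genericPoint_closure_eq, hc.closure_eq]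
      exact hxZ
    have hη : η ⤳ hZi.genericPoint := genPt_specializes_of_specializes x hg
    calc Z = closure {hZi.genericPoint} := by rw [hZi.genericPoint_closure_eq, hc.closure_eq]
      _ ⊆ closure {η} := specializes_iff_closure_subset.1 hη
  let 𝒵 : Set (Set X) := {Z ∈ irreducibleComponents ↥X | x ∉ Z}
  have hcl : IsClosed (⋃ Z ∈ 𝒵, Z) :=
    (hfin.subset fun Z hZ => hZ.1).isClosed_biUnion fun Z hZ => isClosed_of_mem_irreducibleComponents Z hZ.1
  let W : X.Opens := ⟨(⋃ Z ∈ 𝒵, Z)ᶜ, hcl.isOpen_compl⟩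
  have hxW : x ∈ W := by
    show x ∉ ⋃ Z ∈ 𝒵, Z
    simp only [Set.mem_iUnion, not_exists]
    exact fun Z hZ hx => hZ.2 hx
  have hW : (W : Set X) ⊆ closure {η} := fun w hw => by
    by_cases hx : x ∈ irreducibleComponent w
    · exact key _ (irreducibleComponent_mem_irreducibleComponents w) hx mem_irreducibleComponent
    · exact absurd (Set.mem_iUnion₂.2 ⟨_, (show irreducibleComponent w ∈ 𝒵 from
        ⟨irreducibleComponent_mem_irreducibleComponents w, hx⟩), mem_irreducibleComponent⟩) hw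
  have hηW : η ∈ W := (genPt_specializes_self x).mem_open W.isOpen hxW
  have hirr : IsIrreducible (W : Set X) :=
    ⟨⟨x, hxW⟩, fun A B hA hB ⟨a, ha, ha'⟩ ⟨b, hb, hb'⟩ => ⟨η, hηW,
      (specializes_iff_mem_closure.2 (hW ha)).mem_open hA ha', (specializes_iff_mem_closure.2 (hW hb)).mem_open hB hb'⟩⟩
  haveI : IrreducibleSpace (W : Scheme.{u}) := Subtype.irreducibleSpace hirr
  haveI : IsReduced (W : Scheme.{u}) := isReduced_of_isOpenImmersion W.ι
  exact ⟨W, hxW, isIntegral_of_irreducibleSpace_of_isReduced _⟩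

theorem exists_extension {Y S : Scheme.{u}} (p : X ⟶ S) (q : Y ⟶ S)
    [IsProper q] (x : X) (U : X.Opens) (f : (U : Scheme.{u}) ⟶ Y) (hf : f ≫ q = U.ι ≫ p)
    (hx : x ∈ closure (U : Set ↥X)) [IsDomain (X.presheaf.stalk x)] [ValuationRing (X.presheaf.stalk x)]
    {W : X.Opens} [IsIntegral (W : Scheme.{u})] (hxW : x ∈ W) :
    ∃ (U' : X.Opens) (hUU' : U ≤ U'), x ∈ U' ∧
      ∃ f' : (U' : Scheme.{u}) ⟶ Y, f' ≫ q = U'.ι ≫ p ∧ X.homOfLE hUU' ≫ f' = f := by
  obtain ⟨u, huW, huU⟩ := mem_closure_iff.1 hx _ W.isOpen hxW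
  have hξ : genPt x ∈ U := (genPt_specializes x hxW huW).mem_open U.isOpen huU
  have hq : ValuativeCriterion q := by
    have h : IsProper q := inferInstance
    rw [IsProper.eq_valuativeCriterion] at h
    exact h.1.1.1
  let sq : ValuativeCommSq q :=
    { R := X.presheaf.stalk x, commRing := inferInstance, domain := ‹IsDomain (X.presheaf.stalk x)›
      valuationRing := ‹ValuationRing (X.presheaf.stalk x)›
      K := FractionRing (X.presheaf.stalk x), field := inferInstance, algebra := inferInstance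
      isFractionRing := inferInstance, i₁ := genLift x hξ ≫ f, i₂ := X.fromSpecStalk x ≫ p
      commSq := ⟨by
        rw [Category.assoc, hf, genLift_ι_assoc]
        rfl⟩ }
  obtain ⟨hu⟩ := hq sq
  let l := hu.default
  have hl1 : Spec.map (CommRingCat.ofHom (algebraMap (X.presheaf.stalk x) (FractionRing (X.presheaf.stalk x)))) ≫ l.l = genLift x hξ ≫ f := l.fac_left
  have hl2 : l.l ≫ q = X.fromSpecStalk x ≫ p := l.fac_right
  haveI := isGermInjectiveAt hxW
  obtain ⟨V₀, hxV₀, g₀, hg1, hg2⟩ := spread_out_of_isGermInjective' p q l.l hl2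
  let V : X.Opens := V₀ ⊓ W
  have hxV : x ∈ V := ⟨hxV₀, hxW⟩
  let g : (V : Scheme.{u}) ⟶ Y := X.homOfLE (inf_le_left : V ≤ V₀) ≫ g₀
  have hgq : g ≫ q = V.ι ≫ p := by
    rw [Category.assoc, hg2, Scheme.homOfLE_ι_assoc]
  have hgl : V.fromSpecStalkOfMem x hxV ≫ g = l.l := by
    rw [hg1, ← Category.assoc]
    congr 1
    rw [← cancel_mono V₀.ι, Category.assoc, Scheme.homOfLE_ι, Scheme.Opens.fromSpecStalkOfMem_ι,
      Scheme.Opens.fromSpecStalkOfMem_ι]
  have hgen : genPt x ∈ U ⊓ V := ⟨hξ, (genPt_specializes_self x).mem_open V.isOpen hxV⟩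
  have hagree : X.homOfLE (inf_le_left : U ⊓ V ≤ U) ≫ f = X.homOfLE (inf_le_right : U ⊓ V ≤ V) ≫ g := by
    refine hom_ext_of_genLift x hxW (inf_le_right.trans inf_le_right) hgen q ?_ ?_
    · rw [Category.assoc, Category.assoc, hgq, hf, Scheme.homOfLE_ι_assoc, Scheme.homOfLE_ι_assoc]
    · rw [← Category.assoc, ← Category.assoc, genLift_homOfLE, genLift_homOfLE,
        genLift_eq_fromSpecStalkOfMem x hxV, Category.assoc, hgl]
      exact hl1.symm
  obtain ⟨k, hk1, hk2⟩ := exists_glue_sup U V f g hagree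
  refine ⟨U ⊔ V, le_sup_left, Or.inr hxV, k, ?_, hk1⟩
  refine hom_ext_sup ?_ ?_
  · rw [reassoc_of% hk1, hf, Scheme.homOfLE_ι_assoc]
  · rw [reassoc_of% hk2, hgq, Scheme.homOfLE_ι_assoc]

end ValExtLib
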